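import Groth.Prelude.Def_FlatMod2
import Groth.Agent.CurvesC.GGSec
import Groth.Agent.Dcoh.FinLocFree
import Groth.Agent.Ega2.GlobGenCrit

/-!
# Globally generated modules of finite type on a quasi-compact scheme

* `exists_epi_freeMod`: a globally generated quasi-coherent module of finite type on a quasi-compact
  scheme is a quotient of a finite free module `O_X^N`.
-/

set_option autoImplicit false

universe u

open CategoryTheory CategoryTheory.Limits AlgebraicGeometry Opposite TopologicalSpace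

namespace Groth.Agent.Ega2.H287.FinGenFree

open Groth.Agent.Fdesc.LocGen

variable {X : Scheme.{u}}

/-- A finite affine cover of a quasi-compact scheme. -/
theorem exists_cover (X : Scheme.{u}) [CompactSpace X] :
    ∃ (J : Type u) (_ : Finite J) (V : J → X.Opens), (∀ j, IsAffineOpen (V j)) ∧ ⨆ j, V j = ⊤ := by
  obtain ⟨s, hs, h⟩ := (isCompact_and_isOpen_iff_finite_and_eq_biUnion_affineOpens (X := X)
    (U := Set.univ)).1 ⟨isCompact_univ, isOpen_univ⟩
  refine ⟨s, hs.to_subtype, fun j => j.1.1, fun j => j.1.2, ?_⟩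
  rw [eq_top_iff]
  rintro x -
  have : x ∈ (Set.univ : Set X) := trivial
  rw [h] at this
  simp only [Set.mem_iUnion] at this
  obtain ⟨j, hj, hx⟩ := this
  exact Opens.mem_iSup.mpr ⟨⟨j, hj⟩, hx⟩

/-- A globally generated quasi-coherent module of finite type on a quasi-compact scheme is a quotient
of a finite free module. -/
theorem exists_epi_freeMod [CompactSpace X] {M : X.Modules} (hM : Coh.IsCoh M)
    (h : Curv2.IsGloballyGenerated M) :
    ∃ (N : ℕ) (p : FlatMod.freeMod X N ⟶ M), Epi p := by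
  classical
  have hq : Coh.IsQCoh M := hM.1
  obtain ⟨ι, e, he⟩ := CurvesC.GGSec.exists_sections_of_isGloballyGenerated h
  obtain ⟨J, hJ, V, hV, hcov⟩ := exists_cover X
  cases nonempty_fintype J
  have key : ∀ j, ∃ T : Finset ι, Submodule.span Γ(X, V j)
      ((fun i => res M (le_top : V j ≤ ⊤) (e i)) '' (T : Set ι)) = ⊤ := by
    intro j
    have h1 : Submodule.span Γ(X, V j) (Set.range fun i => res M (le_top : V j ≤ ⊤) (e i)) = ⊤ :=
      CurvesC.GGSec.spanOn_eq_top hq he (hV j)
    have h2 := (CohqB.FiniteType2.finite_sections_of_isFT M hM.2 (hV j)).fg_top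
    rw [← h1] at h2
    obtain ⟨s', hs', hss'⟩ := (Submodule.fg_span_iff_fg_span_finset_subset _).mp h2
    rw [← Set.image_univ] at hs'
    obtain ⟨T, -, hT⟩ := Finset.subset_set_image_iff.mp hs'
    refine ⟨T, ?_⟩
    rw [← h1, hss', ← hT, Finset.coe_image]
  choose T hT using key
  let T' : Finset ι := Finset.univ.biUnion T
  let σ := T'.equivFin
  let s : Fin T'.card → Γ(M, ⊤) := fun k => e (σ.symm k).1
  refine ⟨T'.card, Dcoh.FinLocFree.freeDesc s, ⟨fun {Z} h₁ h₂ hh => ?_⟩⟩
  refine Ega2.GlobGenCrit.hom_ext_of_span hq V hV hcov (Set.range s) (fun j => ?_) h₁ h₂ ?_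
  · rw [eq_top_iff, ← hT j]
    refine Submodule.span_mono ?_
    rintro _ ⟨i, hi, rfl⟩
    have hi' : i ∈ T' := Finset.mem_biUnion.mpr ⟨j, Finset.mem_univ _, hi⟩
    refine ⟨e i, ⟨σ ⟨i, hi'⟩, ?_⟩, rfl⟩
    simp only [s, Equiv.symm_apply_apply]
  · rintro _ ⟨k, rfl⟩
    have h3 := congrArg (fun φ => Dcoh.FinLocFree.freeSec φ k) hh
    simp only [Dcoh.FinLocFree.freeSec_comp, Dcoh.FinLocFree.freeSec_freeDesc] at h3
    exact h3

end Groth.Agent.Ega2.H287.FinGenFree
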